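import Groth.Agent.CompleteHomLib.Lift
import Groth.Agent.HomLiftCpl.Semilocal
import Groth.Agent.S5273

/-!
# Homomorphisms with the same closed fibre are conjugate
-/

set_option autoImplicit false
set_option backward.isDefEq.respectTransparency false
set_option linter.style.haveILetI false
set_option synthInstance.maxHeartbeats 400000

noncomputable section

universe u

open CategoryTheory CategoryTheory.Limits MonoidalCategory CartesianMonoidalCategory AlgebraicGeometry
open scoped MonObj

namespace CompleteHom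

attribute [-instance] CategoryTheory.Hom.commGroup

variable {A : Type u} [CommRing A] [IsLocalRing A]

/-- A level as an object over the base. -/
abbrev T (A : Type u) [CommRing A] [IsLocalRing A] (n : ℕ) : Over (Spec (CommRingCat.of A)) := Over.mk (L A n)

variable {M G : Over (Spec (CommRingCat.of A))} [GrpObj M] [GrpObj G]

/-- A point conjugates `u` into `u'` over a level. -/
def RelAt (u u' : M ⟶ G) (n : ℕ) (g : T A n ⟶ G) : Prop :=
  ∀ (Y : Over (Spec (CommRingCat.of A))) (p : Y ⟶ T A n) (x : Y ⟶ M),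
    x ≫ u' = (p ≫ g) * (x ≫ u) * (p ≫ g)⁻¹

/-- A conjugating point on a level lifts to the next one. -/
theorem exists_next_conj [Smooth G.hom] (hM : SGA3x.IsMultTypeFT M) (u u' : M ⟶ G) [IsMonHom u] [IsMonHom u']
    (n : ℕ) (g : T A n ⟶ G) (hg : RelAt u u' n g) :
    ∃ g' : T A (n + 1) ⟶ G, RelAt u u' (n + 1) g' ∧ (Over.homMk (fk A n) (fk_comp A n) : T A n ⟶ T A (n + 1)) ≫ g' = g := by
  let S₁ := Spec (CommRingCat.of (RR A (n + 1)))
  let l := L A (n + 1)
  haveI : Smooth (Red.bc l G).hom := inferInstanceAs (Smooth (pullback.snd G.hom l))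
  haveI : IsMonHom ((Over.pullback l).map u) := Groth.Agent.DiagRep.isMonHom_bc_map l u
  haveI : IsMonHom ((Over.pullback l).map u') := Groth.Agent.DiagRep.isMonHom_bc_map l u'
  let E : ∀ X₀ : Over S₁, ((Over.map l).obj X₀ ⟶ G) ≃* (X₀ ⟶ Red.bc l G) := fun X₀ =>
    PowEtCentralLib.adjEquiv l X₀
  have hwj : (jp A n ≫ g.left) ≫ G.hom = jj A n ≫ l := by
    rw [Category.assoc, Over.w g]
    exact jp_comp A n
  let g₀ : (Over.mk (jj A n) : Over S₁) ⟶ Red.bc l G :=
    Over.homMk (pullback.lift (jp A n ≫ g.left) (jj A n) hwj) (pullback.lift_snd _ _ _)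
  have hE : ∀ (X₀ : Over S₁) (a : X₀ ⟶ Red.bc l G), ((E X₀).symm a).left = a.left ≫ pullback.fst G.hom l := by
    intro X₀ a
    show (((Over.mapPullbackAdj l).homEquiv X₀ G).symm a).left = _
    rw [Adjunction.homEquiv_counit]
    simp [Over.mapPullbackAdj]
  obtain ⟨γ', hγ, hrel⟩ := Groth.Agent.S5273.result (JJ A n) (isNilpotent_JJ A n) (Red.bc l M) (Red.bc l G)
    (Groth.Agent.ConjAvg.locally_bc l (locally_of_multTypeFT hM)) ‹_› ((Over.pullback l).map u)
    ((Over.pullback l).map u') g₀ (fun X p h => by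
      apply (E X).symm.injective
      rw [map_mul, map_mul, map_inv]
      let y : (Over.map l).obj X ⟶ M := ((Over.mapPullbackAdj l).homEquiv X M).symm h
      have e : ∀ k : M ⟶ G, (E X).symm (h ≫ (Over.pullback l).map k) = y ≫ k := fun k =>
        Adjunction.homEquiv_naturality_right_symm _ _ _
      let P : (Over.map l).obj X ⟶ T A n := Over.homMk (p.left ≫ jp A n) (by
        show (p.left ≫ jp A n) ≫ L A n = X.hom ≫ l
        rw [Category.assoc, jp_comp, ← Category.assoc]
        exact congrArg (· ≫ l) (Over.w p))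
      have eg : (E X).symm (p ≫ g₀) = P ≫ g := by
        refine Over.OverMorphism.ext ((hE _ _).trans ?_)
        simp [g₀, P]
      rw [e, e, eg]
      exact hg _ P y)
  let g' : T A (n + 1) ⟶ G := Over.homMk (γ'.left ≫ pullback.fst G.hom l) (by
    show (γ'.left ≫ pullback.fst G.hom l) ≫ G.hom = l
    rw [Category.assoc, pullback.condition, ← Category.assoc, show γ'.left ≫ pullback.snd G.hom l = 𝟙 _ from
      Over.w γ', Category.id_comp])
  refine ⟨g', fun Y p x => ?_, ?_⟩
  · let X : Over S₁ := Over.mk p.left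
    let e : (Over.map l).obj X ⟶ Y := Over.homMk (𝟙 _) (by
      show 𝟙 _ ≫ Y.hom = p.left ≫ l
      rw [Category.id_comp]
      exact (Over.w p).symm)
    haveI : IsIso ((Over.forget _).map e) := inferInstanceAs (IsIso (𝟙 _))
    haveI : IsIso e := isIso_of_reflects_iso _ (Over.forget _)
    rw [← cancel_epi e, MonObj.comp_mul, MonObj.comp_mul, GrpObj.comp_inv]
    have h := congrArg (E X).symm (hrel X ((Over.mapPullbackAdj l).homEquiv X M (e ≫ x)))
    rw [map_mul, map_mul, map_inv] at h
    have ek : ∀ k : M ⟶ G, (E X).symm ((Over.mapPullbackAdj l).homEquiv X M (e ≫ x) ≫ (Over.pullback l).map k) =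
        e ≫ x ≫ k := fun k => by
      refine (Adjunction.homEquiv_naturality_right_symm _ _ _).trans ?_
      rw [Equiv.symm_apply_apply, Category.assoc]
    have eg : (E X).symm (toUnit X ≫ γ') = e ≫ p ≫ g' := by
      refine Over.OverMorphism.ext ((hE _ _).trans ?_)
      simp [g', e, X]
    rwa [ek, ek, eg] at h
  · refine Over.OverMorphism.ext ?_
    show fk A n ≫ γ'.left ≫ pullback.fst G.hom l = g.left
    rw [← cancel_epi (jp A n), ← Category.assoc (jp A n), jp_fk]
    have h := congrArg (fun k => k.left ≫ pullback.fst G.hom l) hγ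
    simp [g₀] at h
    exact h

variable [IsNoetherianRing A] [IsAdicComplete (IsLocalRing.maximalIdeal A) A]

/-- Homomorphisms agreeing on the closed fibre are conjugate. -/
theorem exists_conj [IsFinite M.hom] [Smooth G.hom] (hM : SGA3x.IsMultTypeFT M) (u u' : M ⟶ G) [IsMonHom u] [IsMonHom u']
    (h : (Over.pullback (i₀ A)).map u = (Over.pullback (i₀ A)).map u') :
    ∃ g : 𝟙_ (Over (Spec (CommRingCat.of A))) ⟶ G,
      (Over.pullback (i₀ A)).map g = toUnit _ ≫ η[Red.bc (i₀ A) G] ∧
      ∀ (X : Over (Spec (CommRingCat.of A))) (x : X ⟶ M), x ≫ u' = (toUnit X ≫ g) * (x ≫ u) * (toUnit X ≫ g)⁻¹ := by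
  classical
  choose next hnext hcompat using fun n (g : {g : T A n ⟶ G // RelAt u u' n g}) =>
    exists_next_conj hM u u' n g.1 g.2
  have h0 : RelAt u u' 0 1 := by
    intro Y p x
    rw [MonObj.comp_one, _root_.one_mul, inv_one, _root_.mul_one]
    refine Over.OverMorphism.ext ?_
    let r : Y.left ⟶ pullback M.hom (i₀ A) := pullback.lift x.left (p.left ≫ q₀ A) (by
      rw [Category.assoc, q₀_comp, Over.w x]
      exact (Over.w p).symm)
    have h' := congrArg (fun k => r ≫ k.left ≫ pullback.fst G.hom (i₀ A)) h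
    simp only [ActBC.pullback_map_left_fst] at h'
    simpa [r] using h'.symm
  let gs : ∀ n, {g : T A n ⟶ G // RelAt u u' n g} := fun n => Nat.rec
    ⟨1, h0⟩ (fun n g => ⟨next n g, hnext n g⟩) n
  have hcompat' : ∀ n, fk A n ≫ (gs (n + 1)).1.left = (gs n).1.left := fun n =>
    congrArg CommaMorphism.left (hcompat n (gs n))
  haveI : IsFinite (𝟙_ (Over (Spec (CommRingCat.of A)))).hom := inferInstanceAs (IsFinite (𝟙 _))
  obtain ⟨f, hf⟩ := exists_levels (𝟙_ (Over (Spec (CommRingCat.of A))))
    (fun n => pullback.snd _ _ ≫ (gs n).1.left) (fun n => by rw [up_snd_assoc, hcompat'])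
  have hsec : ∀ n, L A n ≫ f = (gs n).1.left := fun n => by
    have e : pullback.lift (L A n) (𝟙 _) (by rw [Category.id_comp]; exact Category.comp_id _) ≫
        pullback.fst (𝟙_ (Over (Spec (CommRingCat.of A)))).hom (L A n) = L A n := pullback.lift_fst _ _ _
    rw [← e, Category.assoc, hf, pullback.lift_snd_assoc, Category.id_comp]
  have hw : f ≫ G.hom = (𝟙_ (Over (Spec (CommRingCat.of A)))).hom := ext_levels _ _ _ fun n => by
    rw [← Category.assoc, hf, Category.assoc, Over.w (gs n).1]
    exact pullback.condition.symm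
  let g : 𝟙_ (Over (Spec (CommRingCat.of A))) ⟶ G := Over.homMk f hw
  have hg : ∀ (n : ℕ), toUnit (T A n) ≫ g = (gs n).1 := fun n => by
    refine Over.OverMorphism.ext ?_
    rw [Over.comp_left, Over.toUnit_left]
    exact hsec n
  refine ⟨g, ?_, ?_⟩
  · have h1 : toUnit (T A 0) ≫ g = 1 := hg 0
    let e : T A 0 ⟶ Over.mk (i₀ A) := Over.homMk (q₀ A) (q₀_comp A)
    haveI : Epi e := by
      haveI : IsIso ((Over.forget _).map e) := inferInstanceAs (IsIso (q₀ A))
      haveI : IsIso e := isIso_of_reflects_iso _ (Over.forget _)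
      infer_instance
    have h2 : toUnit (Over.mk (i₀ A)) ≫ g = 1 := by
      rw [← cancel_epi e, MonObj.comp_one, ← Category.assoc, toUnit_unique (e ≫ toUnit _) (toUnit _), h1]
    let j := i₀ A
    let Z := Red.bc j (𝟙_ (Over (Spec (CommRingCat.of A))))
    let r : PowEtCentralLib.res j (𝟙_ (Over (Spec (CommRingCat.of A)))) ⟶ Over.mk (i₀ A) :=
      Over.homMk (pullback.snd _ _) rfl
    have h3 : PowEtCentralLib.inc j _ ≫ g = 1 := by
      rw [← Category.id_comp g, ← Category.assoc,
        toUnit_unique (PowEtCentralLib.inc j _ ≫ 𝟙 _) (r ≫ toUnit _), Category.assoc, h2, MonObj.comp_one]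
    have h4 := PowEtCentralLib.adjEquiv_inc j g
    rw [h3, map_one] at h4
    exact h4.symm.trans Hom.one_def
  · intro X x
    have huniv : u' = (toUnit M ≫ g) * u * (toUnit M ≫ g)⁻¹ := by
      refine Over.OverMorphism.ext (ext_levels M _ _ fun n => ?_)
      let Y : Over (Spec (CommRingCat.of A)) := Over.mk (pullback.fst M.hom (L A n) ≫ M.hom)
      let y : Y ⟶ M := Over.homMk (pullback.fst M.hom (L A n)) rfl
      let p : Y ⟶ T A n := Over.homMk (pullback.snd M.hom (L A n)) pullback.condition.symm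
      have hrel := (gs n).2 Y p y
      rw [← hg n, ← Category.assoc, toUnit_unique (p ≫ toUnit _) (y ≫ toUnit M), Category.assoc,
        ← GrpObj.comp_inv, ← MonObj.comp_mul, ← MonObj.comp_mul] at hrel
      exact congrArg CommaMorphism.left hrel
    conv_lhs => rw [huniv]
    rw [MonObj.comp_mul, MonObj.comp_mul, GrpObj.comp_inv, ← Category.assoc,
      toUnit_unique (x ≫ toUnit M) (toUnit X)]

end CompleteHom
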