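import Mathlib
import Groth.Agent.HomLiftCpl.Semilocal

/-!
# Morphisms out of a finite scheme over a complete local ring
-/

set_option autoImplicit false
set_option backward.isDefEq.respectTransparency false

noncomputable section

universe u

open CategoryTheory CategoryTheory.Limits AlgebraicGeometry

namespace CompleteHom

variable {A : Type u} [CommRing A] [IsLocalRing A] [IsNoetherianRing A]
  [IsAdicComplete (IsLocalRing.maximalIdeal A) A]

/-- The closed subscheme `Spec (A ⧸ 𝔪 ^ k)`. -/
abbrev level (A : Type u) [CommRing A] [IsLocalRing A] (k : ℕ) :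
    Spec (CommRingCat.of (A ⧸ IsLocalRing.maximalIdeal A ^ k)) ⟶ Spec (CommRingCat.of A) :=
  Spec.map (CommRingCat.ofHom (Ideal.Quotient.mk (IsLocalRing.maximalIdeal A ^ k)))

/-- Morphisms out of a finite scheme over a complete local ring. -/
theorem finite_ext_and_exists (X : Over (Spec (CommRingCat.of A))) [IsFinite X.hom] (Z : Scheme.{u}) :
    (∀ f g : X.left ⟶ Z, (∀ k, pullback.fst X.hom (level A k) ≫ f = pullback.fst X.hom (level A k) ≫ g) → f = g) ∧
    (∀ u : (k : ℕ) → (pullback X.hom (level A k) ⟶ Z),
      (∀ k : ℕ, pullback.map X.hom (level A k) X.hom (level A (k + 1)) (𝟙 _)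
        (Spec.map (CommRingCat.ofHom (Ideal.Quotient.factor
          (Ideal.pow_le_pow_right (I := IsLocalRing.maximalIdeal A) (Nat.le_succ k))))) (𝟙 _) (by simp)
        (by simp only [level, Category.comp_id]; rw [← Spec.map_comp]; rfl) ≫ u (k + 1) = u k) →
      ∃ f : X.left ⟶ Z, ∀ k : ℕ, pullback.fst X.hom (level A k) ≫ f = u k) := by
  haveI : IsAffine X.left := isAffine_of_isAffineHom X.hom
  let B : Type u := Γ(X.left, ⊤)
  obtain ⟨φ, hφ⟩ := Spec.map_surjective (X.left.isoSpec.inv ≫ X.hom)
  algebraize [φ.hom]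
  haveI hf : IsFinite (Spec.map φ) := by rw [hφ]; infer_instance
  haveI : Module.Finite A B := RingHom.finite_algebraMap.mp ((IsFinite.SpecMap_iff φ).mp hf)
  set m := IsLocalRing.maximalIdeal A with hm
  set I := Ideal.map (algebraMap A B) m with hI
  haveI : IsAdicComplete m B := HomLiftCpl.isAdicComplete_of_finite m
  haveI : IsAdicComplete I B := (IsAdicComplete.map_algebraMap_iff (I := m) (S := B) (M := B)).mpr inferInstance
  haveI : IsArtinianRing (B ⧸ I) := by
    haveI : m.IsMaximal := IsLocalRing.maximalIdeal.isMaximal A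
    haveI : IsArtinianRing (A ⧸ m) := by
      letI := Ideal.Quotient.field m
      infer_instance
    letI : Algebra (A ⧸ m) (B ⧸ I) :=
      (Ideal.quotientMap I (algebraMap A B) Ideal.le_comap_map).toAlgebra
    haveI : IsScalarTower A (A ⧸ m) (B ⧸ I) := IsScalarTower.of_algebraMap_eq fun _ => rfl
    haveI : Module.Finite (A ⧸ m) (B ⧸ I) := Module.Finite.of_restrictScalars_finite A _ _
    exact IsArtinianRing.of_finite (A ⧸ m) (B ⧸ I)
  obtain ⟨hext, hex⟩ := HomLiftCpl.ext_and_exists I Z
  -- `Spec (B ⧸ I ^ k)` maps isomorphically to the `k`-th level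
  have hle : ∀ k, m ^ k ≤ (I ^ k).comap (algebraMap A B) := fun k => by
    rw [hI, ← Ideal.map_pow]
    exact Ideal.le_comap_map
  let q : (k : ℕ) → (Spec (CommRingCat.of (B ⧸ I ^ k)) ⟶ Spec (CommRingCat.of (A ⧸ m ^ k))) :=
    fun k => Spec.map (CommRingCat.ofHom (Ideal.quotientMap (I ^ k) (algebraMap A B) (hle k)))
  have hw : ∀ k, (HomLiftCpl.cl (I ^ k) ≫ X.left.isoSpec.inv) ≫ X.hom = q k ≫ level A k := fun k => by
    rw [Category.assoc, ← hφ, ← Spec.map_comp, ← Spec.map_comp]
    rfl
  let L : (k : ℕ) → (Spec (CommRingCat.of (B ⧸ I ^ k)) ⟶ pullback X.hom (level A k)) :=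
    fun k => pullback.lift _ (q k) (hw k)
  have hL : ∀ k, IsIso (L k) := by
    intro k
    haveI : IsClosedImmersion (L k) := by
      haveI : IsClosedImmersion (L k ≫ pullback.fst X.hom (level A k)) := by
        rw [pullback.lift_fst]
        haveI : IsClosedImmersion (HomLiftCpl.cl (I ^ k)) :=
          IsClosedImmersion.spec_of_surjective _ Ideal.Quotient.mk_surjective
        infer_instance
      haveI : IsClosedImmersion (pullback.fst X.hom (level A k)) := by
        haveI : IsClosedImmersion (level A k) :=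
          IsClosedImmersion.spec_of_surjective _ Ideal.Quotient.mk_surjective
        infer_instance
      exact IsClosedImmersion.of_comp (L k) (pullback.fst X.hom (level A k))
    -- a section of the closed immersion
    let P := pullback X.hom (level A k)
    obtain ⟨ψ, hψ⟩ : ∃ ψ : P ⟶ Spec (CommRingCat.of B), ψ = pullback.fst X.hom (level A k) ≫ X.left.isoSpec.hom :=
      ⟨_, rfl⟩
    haveI : IsAffine P := by
      haveI : IsClosedImmersion (level A k) :=
        IsClosedImmersion.spec_of_surjective _ Ideal.Quotient.mk_surjective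
      exact isAffine_of_isAffineHom (pullback.fst X.hom (level A k))
    obtain ⟨χ, hχ⟩ := Spec.map_surjective (P.isoSpec.inv ≫ ψ)
    obtain ⟨ρ, hρ⟩ := Spec.map_surjective (P.isoSpec.inv ≫ pullback.snd X.hom (level A k))
    have hcomm : φ ≫ χ = CommRingCat.ofHom (Ideal.Quotient.mk (m ^ k)) ≫ ρ := by
      apply Spec.map_injective
      rw [Spec.map_comp, Spec.map_comp, hχ, hρ, hψ, hφ, Category.assoc, Category.assoc, Iso.hom_inv_id_assoc,
        pullback.condition, Category.assoc]
    have hker : I ^ k ≤ RingHom.ker χ.hom := by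
      rw [hI, ← Ideal.map_pow, Ideal.map_le_iff_le_comap]
      intro x hx
      show χ.hom (φ.hom x) = 0
      have h1 := congrArg (fun r => r.hom x) hcomm
      refine h1.trans ?_
      show ρ.hom (Ideal.Quotient.mk (m ^ k) x) = 0
      rw [Ideal.Quotient.eq_zero_iff_mem.mpr hx, map_zero]
    let σ : P ⟶ Spec (CommRingCat.of (B ⧸ I ^ k)) :=
      P.isoSpec.hom ≫ Spec.map (CommRingCat.ofHom (Ideal.Quotient.lift (I ^ k) χ.hom hker))
    have hσ : σ ≫ HomLiftCpl.cl (I ^ k) = ψ := by
      rw [Category.assoc, ← Spec.map_comp]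
      have : CommRingCat.ofHom (Ideal.Quotient.mk (I ^ k)) ≫
          CommRingCat.ofHom (Ideal.Quotient.lift (I ^ k) χ.hom hker) = χ := by ext; rfl
      rw [this, hχ, Iso.hom_inv_id_assoc]
    have h1 : σ ≫ L k = 𝟙 P := by
      haveI : IsClosedImmersion (level A k) :=
        IsClosedImmersion.spec_of_surjective _ Ideal.Quotient.mk_surjective
      rw [← cancel_mono (pullback.fst X.hom (level A k)), Category.assoc, pullback.lift_fst,
        ← Category.assoc, hσ, hψ, Category.id_comp, Category.assoc, Iso.hom_inv_id, Category.comp_id]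
    haveI : Mono (L k) := inferInstance
    exact ⟨σ, by rw [← cancel_mono (L k), Category.assoc, h1, Category.comp_id, Category.id_comp], h1⟩
  refine ⟨fun f g h => ?_, fun u hu => ?_⟩
  · rw [← cancel_epi X.left.isoSpec.inv]
    refine hext _ _ fun k => ?_
    rw [← Category.assoc, ← Category.assoc]
    rw [← show L k ≫ pullback.fst X.hom (level A k) = HomLiftCpl.cl (I ^ k) ≫ X.left.isoSpec.inv from
      pullback.lift_fst _ _ _, Category.assoc, Category.assoc, h k]
  · obtain ⟨f, hf⟩ := hex (fun k => L k ≫ u k) (fun k => by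
      rw [← hu k, ← Category.assoc, ← Category.assoc]
      congr 1
      apply pullback.hom_ext
      · simp only [L, Category.assoc, pullback.lift_fst, Category.comp_id]
        rw [← Category.assoc, ← Spec.map_comp]
        rfl
      · simp only [L, Category.assoc, pullback.lift_snd, pullback.lift_snd_assoc]
        rw [← Spec.map_comp, ← Spec.map_comp]
        congr 1
        ext x
        rfl)
    refine ⟨X.left.isoSpec.hom ≫ f, fun k => ?_⟩
    haveI := hL k
    rw [← cancel_epi (L k), ← Category.assoc, pullback.lift_fst, Category.assoc, Iso.inv_hom_id_assoc]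
    exact hf k

end CompleteHom
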