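import Groth.Agent.CompleteHomLib.Finite
import Groth.Agent.HomCorrLib.Bridge
import Groth.Agent.HomCorrLib.HomLift

/-!
# Levels of a scheme over a complete local ring and transport of homomorphisms between them
-/

set_option autoImplicit false
set_option backward.isDefEq.respectTransparency false
set_option linter.style.haveILetI false
set_option synthInstance.maxHeartbeats 400000

noncomputable section

universe u

open CategoryTheory CategoryTheory.Limits MonoidalCategory CartesianMonoidalCategory AlgebraicGeometry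
open scoped MonObj

namespace CompleteHom

section Transport

variable {S P P' : Scheme.{u}} (q : P' ⟶ P) (d' : P ⟶ S) {d : P' ⟶ S} (h : q ≫ d' = d) {M G : Over S}

/-- Transport of a morphism of base changes along a factorisation. -/
def tr (u : Red.bc d' M ⟶ Red.bc d' G) : Red.bc d M ⟶ Red.bc d G :=
  (ActBC.bcCompIso q d' M h).inv ≫ (Over.pullback q).map u ≫ (ActBC.bcCompIso q d' G h).hom

theorem isMonHom_tr [GrpObj M] [GrpObj G] (u : Red.bc d' M ⟶ Red.bc d' G) [IsMonHom u] : IsMonHom (tr q d' h u) := by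
  haveI : IsMonHom (ActBC.bcCompIso q d' M h).hom := ActBC.bcCompIso_isMonHom _ _ _
  haveI : IsMonHom (ActBC.bcCompIso q d' G h).hom := ActBC.bcCompIso_isMonHom _ _ _
  haveI : IsMonHom ((Over.pullback q).map u) := Groth.Agent.DiagRep.isMonHom_bc_map q u
  unfold tr
  infer_instance

/-- The change of level on the source. -/
def shiftFst : (Red.bc d M).left ⟶ (Red.bc d' M).left :=
  (ActBC.bcCompIso q d' M h).inv.left ≫ pullback.fst _ q

theorem shiftFst_fst : shiftFst q d' h (M := M) ≫ pullback.fst M.hom d' = pullback.fst M.hom d := by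
  rw [shiftFst, Category.assoc, ← ActBC.bcCompIso_hom_left_fst q d' M h, ← Category.assoc, ← Over.comp_left,
    Iso.inv_hom_id, Over.id_left, Category.id_comp]

theorem shiftFst_snd : shiftFst q d' h (M := M) ≫ pullback.snd M.hom d' = pullback.snd M.hom d ≫ q := by
  have e : (ActBC.bcCompIso q d' M h).inv.left ≫ pullback.snd _ q = pullback.snd M.hom d :=
    Over.w (ActBC.bcCompIso q d' M h).inv
  rw [shiftFst, Category.assoc, show pullback.fst (Red.bc d' M).hom q ≫ pullback.snd M.hom d' =
    pullback.snd (Red.bc d' M).hom q ≫ q from pullback.condition, ← Category.assoc, e]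

theorem tr_fst (u : Red.bc d' M ⟶ Red.bc d' G) :
    (tr q d' h u).left ≫ pullback.fst G.hom d = shiftFst q d' h ≫ u.left ≫ pullback.fst G.hom d' := by
  rw [tr, shiftFst, Over.comp_left, Over.comp_left, Category.assoc, Category.assoc,
    ActBC.bcCompIso_hom_left_fst, Category.assoc]
  exact congrArg (_ ≫ ·) ((Category.assoc _ _ _).symm.trans
    ((congrArg (· ≫ pullback.fst G.hom d') (ActBC.pullback_map_left_fst q u)).trans (Category.assoc _ _ _)))

instance isIso_shiftFst [IsIso q] : IsIso (shiftFst q d' h (M := M)) := by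
  unfold shiftFst
  infer_instance

end Transport

variable (A : Type u) [CommRing A] [IsLocalRing A]

/-- The rings of the levels. -/
abbrev RR (n : ℕ) : Type u := A ⧸ IsLocalRing.maximalIdeal A ^ (n + 1)

/-- The levels. -/
abbrev L (n : ℕ) : Spec (CommRingCat.of (RR A n)) ⟶ Spec (CommRingCat.of A) :=
  Spec.map (CommRingCat.ofHom (Ideal.Quotient.mk (IsLocalRing.maximalIdeal A ^ (n + 1))))

/-- The closed point. -/
abbrev i₀ : Spec (CommRingCat.of (A ⧸ IsLocalRing.maximalIdeal A)) ⟶ Spec (CommRingCat.of A) :=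
  Spec.map (CommRingCat.ofHom (Ideal.Quotient.mk (IsLocalRing.maximalIdeal A)))

/-- The first level is the closed point. -/
abbrev q₀ : Spec (CommRingCat.of (RR A 0)) ⟶ Spec (CommRingCat.of (A ⧸ IsLocalRing.maximalIdeal A)) :=
  Spec.map (CommRingCat.ofHom (Ideal.Quotient.factor (by rw [zero_add, pow_one] :
    IsLocalRing.maximalIdeal A ≤ IsLocalRing.maximalIdeal A ^ (0 + 1))))

theorem q₀_comp : q₀ A ≫ i₀ A = L A 0 := by
  rw [← Spec.map_comp]
  rfl

instance : IsIso (q₀ A) := by
  refine ⟨Spec.map (CommRingCat.ofHom (Ideal.Quotient.factor (by rw [zero_add, pow_one] :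
    IsLocalRing.maximalIdeal A ^ (0 + 1) ≤ IsLocalRing.maximalIdeal A))), ?_, ?_⟩ <;>
  · rw [← Spec.map_comp, ← CommRingCat.ofHom_comp, Ideal.Quotient.factor_comp, ← Spec.map_id]
    congr 1
    ext x
    rfl

/-- The transition maps. -/
abbrev fk (n : ℕ) : Spec (CommRingCat.of (RR A n)) ⟶ Spec (CommRingCat.of (RR A (n + 1))) :=
  Spec.map (CommRingCat.ofHom (Ideal.Quotient.factor
    (Ideal.pow_le_pow_right (I := IsLocalRing.maximalIdeal A) (by omega : n + 1 ≤ n + 1 + 1))))

theorem fk_comp (n : ℕ) : fk A n ≫ L A (n + 1) = L A n := by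
  rw [← Spec.map_comp]
  rfl

/-- The ideal of a level in the next one. -/
abbrev JJ (n : ℕ) : Ideal (RR A (n + 1)) :=
  (IsLocalRing.maximalIdeal A ^ (n + 1)).map (Ideal.Quotient.mk _)

theorem isNilpotent_JJ (n : ℕ) : IsNilpotent (JJ A n) := by
  refine ⟨2, le_bot_iff.mp ?_⟩
  rw [← Ideal.map_pow, ← pow_mul]
  refine (Ideal.map_mono (Ideal.pow_le_pow_right (by omega : n + 1 + 1 ≤ (n + 1) * 2))).trans ?_
  rw [Ideal.map_quotient_self]

/-- The inclusion of a level as closed subscheme of the next one. -/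
abbrev jj (n : ℕ) : Spec (CommRingCat.of (RR A (n + 1) ⧸ JJ A n)) ⟶ Spec (CommRingCat.of (RR A (n + 1))) :=
  Groth.Agent.HomCorr.jJ (JJ A n)

theorem ker_le (n : ℕ) : ∀ a ∈ IsLocalRing.maximalIdeal A ^ (n + 1),
    ((Ideal.Quotient.mk (JJ A n)).comp (Ideal.Quotient.mk (IsLocalRing.maximalIdeal A ^ (n + 1 + 1)))) a = 0 :=
  fun _ ha => Ideal.Quotient.eq_zero_iff_mem.mpr (Ideal.mem_map_of_mem _ ha)

/-- The identification of the two descriptions of a level. -/
abbrev jp (n : ℕ) : Spec (CommRingCat.of (RR A (n + 1) ⧸ JJ A n)) ⟶ Spec (CommRingCat.of (RR A n)) :=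
  Spec.map (CommRingCat.ofHom (Ideal.Quotient.lift _ _ (ker_le A n)))

theorem jp_fk (n : ℕ) : jp A n ≫ fk A n = jj A n := by
  rw [← Spec.map_comp]
  congr 1
  ext x
  rfl

theorem jp_comp (n : ℕ) : jp A n ≫ L A n = jj A n ≫ L A (n + 1) := by
  rw [← fk_comp, ← Category.assoc, jp_fk]

instance (n : ℕ) : IsIso (jp A n) := by
  refine ⟨Spec.map (CommRingCat.ofHom (Ideal.Quotient.lift (JJ A n)
    (Ideal.Quotient.factor (Ideal.pow_le_pow_right (I := IsLocalRing.maximalIdeal A) (by omega : n + 1 ≤ n + 1 + 1)))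
    (fun a ha => ?_))), ?_, ?_⟩
  · refine RingHom.mem_ker.mp ((Ideal.map_le_iff_le_comap.mpr fun b hb => ?_) ha)
    show Ideal.Quotient.factor _ (Ideal.Quotient.mk _ b) = 0
    rw [Ideal.Quotient.factor_mk, Ideal.Quotient.eq_zero_iff_mem]
    exact hb
  · rw [← Spec.map_comp, ← Spec.map_id]
    congr 1
    ext x
    rfl
  · rw [← Spec.map_comp, ← Spec.map_id]
    congr 1
    ext x
    rfl

variable {A}

/-- Change of level upwards. -/
def up (X : Over (Spec (CommRingCat.of A))) (n : ℕ) : pullback X.hom (L A n) ⟶ pullback X.hom (L A (n + 1)) :=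
  pullback.lift (pullback.fst _ _) (pullback.snd _ _ ≫ fk A n)
    (by rw [pullback.condition, Category.assoc, fk_comp])

@[reassoc (attr := simp)]
theorem up_fst (X : Over (Spec (CommRingCat.of A))) (n : ℕ) :
    up X n ≫ pullback.fst _ _ = pullback.fst _ _ := pullback.lift_fst _ _ _

@[reassoc (attr := simp)]
theorem up_snd (X : Over (Spec (CommRingCat.of A))) (n : ℕ) :
    up X n ≫ pullback.snd _ _ = pullback.snd _ _ ≫ fk A n := pullback.lift_snd _ _ _

variable [IsNoetherianRing A] [IsAdicComplete (IsLocalRing.maximalIdeal A) A]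

/-- The bottom level maps to the first one. -/
def bot (X : Over (Spec (CommRingCat.of A))) : pullback X.hom (level A 0) ⟶ pullback X.hom (L A 0) :=
  pullback.lift (pullback.fst _ _) (pullback.snd _ _ ≫ Spec.map (CommRingCat.ofHom (Ideal.Quotient.factor
    (Ideal.pow_le_pow_right (I := IsLocalRing.maximalIdeal A) (Nat.le_succ 0))))) (by
      rw [pullback.condition, Category.assoc, ← Spec.map_comp]
      rfl)

/-- Morphisms out of a finite scheme agreeing on all levels are equal. -/
theorem ext_levels (X : Over (Spec (CommRingCat.of A))) [IsFinite X.hom] {Z : Scheme.{u}} (f g : X.left ⟶ Z)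
    (h : ∀ n, pullback.fst X.hom (L A n) ≫ f = pullback.fst X.hom (L A n) ≫ g) : f = g := by
  refine (finite_ext_and_exists X Z).1 f g fun k => ?_
  rcases k with _ | n
  · have e : bot X ≫ pullback.fst X.hom (L A 0) = pullback.fst X.hom (level A 0) := pullback.lift_fst _ _ _
    rw [← e, Category.assoc, Category.assoc, h 0]
  · exact h n

/-- Compatible morphisms on all levels glue. -/
theorem exists_levels (X : Over (Spec (CommRingCat.of A))) [IsFinite X.hom] {Z : Scheme.{u}}
    (y : ∀ n, pullback X.hom (L A n) ⟶ Z) (hy : ∀ n, up X n ≫ y (n + 1) = y n) :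
    ∃ f : X.left ⟶ Z, ∀ n, pullback.fst X.hom (L A n) ≫ f = y n := by
  obtain ⟨f, hf⟩ := (finite_ext_and_exists X Z).2 (fun k => match k with
    | 0 => bot X ≫ y 0
    | n + 1 => y n) (fun k => by
      rcases k with _ | n
      · show pullback.map _ _ _ _ _ _ _ _ _ ≫ y 0 = bot X ≫ y 0
        congr 1
      · show pullback.map _ _ _ _ _ _ _ _ _ ≫ y (n + 1) = y n
        refine Eq.trans ?_ (hy n)
        congr 1)
  exact ⟨f, fun n => hf (n + 1)⟩

end CompleteHom
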