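import Groth.Agent.CompleteHomLib.Levels
import Groth.Agent.MultEqLib.Props

/-!
# Homomorphisms from finite groups of multiplicative type lift over complete local rings
-/

set_option autoImplicit false
set_option backward.isDefEq.respectTransparency false
set_option linter.style.haveILetI false
set_option synthInstance.maxHeartbeats 400000

noncomputable section

universe u

open CategoryTheory CategoryTheory.Limits MonoidalCategory CartesianMonoidalCategory AlgebraicGeometry CoactBr
open scoped MonObj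

namespace CompleteHom

attribute [-instance] CategoryTheory.Hom.commGroup
attribute [local instance] CoactBr.braidedAlgSpecOf

theorem locally_of_multTypeFT {S : Scheme.{u}} {H : Over S} [GrpObj H] (hH : SGA3x.IsMultTypeFT H) :
    TwC.Locally S TwC.Topology.fpqc (fun S' f => ∃ (M : Type) (_ : AddCommGroup M),
      Nonempty (Grp.mk (Red.bc f H) ≅ Grp.mk (Red.DS S' M))) := by
  obtain ⟨S', f, h1, h2, h3, hloc⟩ := hH
  refine ⟨S', f, h1, h2, h3, fun z => ?_⟩
  obtain ⟨U, hU, M, iM, -, h⟩ := hloc z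
  exact ⟨U, hU, M, iM, h⟩

/-- A morphism whose base change is a homomorphism respects multiplications after base change. -/
theorem map_mul_eq {S S' : Scheme.{u}} (j : S' ⟶ S) {M G : Over S} [GrpObj M] [GrpObj G] (u : M ⟶ G)
    [IsMonHom ((Over.pullback j).map u)] :
    (Over.pullback j).map (μ[M] ≫ u) = (Over.pullback j).map ((u ⊗ₘ u) ≫ μ[G]) := by
  have hmap : ∀ {X : Over S} (a b : X ⟶ G),
      (Over.pullback j).map (a * b) = (Over.pullback j).map a * (Over.pullback j).map b := fun {X} a b => by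
    rw [← PowEtCentralLib.adjEquiv_inc, MonObj.comp_mul, map_mul, PowEtCentralLib.adjEquiv_inc,
      PowEtCentralLib.adjEquiv_inc]
  have hmap' : ∀ {X : Over S} (a b : X ⟶ M),
      (Over.pullback j).map (a * b) = (Over.pullback j).map a * (Over.pullback j).map b := fun {X} a b => by
    rw [← PowEtCentralLib.adjEquiv_inc, MonObj.comp_mul, map_mul, PowEtCentralLib.adjEquiv_inc,
      PowEtCentralLib.adjEquiv_inc]
  rw [MonObj.mul_eq_mul, MonObj.mul_eq_mul, MonObj.comp_mul, tensorHom_fst, tensorHom_snd, Functor.map_comp, hmap',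
    MonObj.mul_comp, hmap, Functor.map_comp, Functor.map_comp]

section Generic

variable {A : Type u} [CommRing A]
variable (M G : Over (Spec (CommRingCat.of A))) [GrpObj M] [GrpObj G] [IsFinite M.hom] [Smooth G.hom]

/-- A homomorphism lifts along a nilpotent thickening of bases. -/
theorem exists_next_gen (hM : SGA3x.IsMultTypeFT M) {R : Type u} [CommRing R] (J : Ideal R) (hJ : IsNilpotent J)
    (l : Spec (CommRingCat.of R) ⟶ Spec (CommRingCat.of A)) {P : Scheme.{u}} (d : P ⟶ Spec (CommRingCat.of A))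
    (q : Spec (CommRingCat.of (R ⧸ J)) ⟶ P) [IsIso q] (t : P ⟶ Spec (CommRingCat.of R)) (hc : t ≫ l = d)
    (hq : q ≫ t = Groth.Agent.HomCorr.jJ J) (ee : pullback M.hom d ⟶ pullback M.hom l)
    (he₁ : ee ≫ pullback.fst M.hom l = pullback.fst M.hom d) (he₂ : ee ≫ pullback.snd M.hom l = pullback.snd M.hom d ≫ t)
    (u : Red.bc d M ⟶ Red.bc d G) [IsMonHom u] :
    ∃ u' : Red.bc l M ⟶ Red.bc l G, IsMonHom u' ∧
      ee ≫ u'.left ≫ pullback.fst G.hom l = u.left ≫ pullback.fst G.hom d := by
  let j := Groth.Agent.HomCorr.jJ J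
  have hd : q ≫ d = j ≫ l := by rw [← hc, ← Category.assoc, hq]
  let MR := Red.bc l M
  let GR := Red.bc l G
  haveI : Smooth GR.hom := inferInstanceAs (Smooth (pullback.snd G.hom l))
  haveI : IsFinite MR.hom := inferInstanceAs (IsFinite (pullback.snd M.hom l))
  haveI : IsAffine MR.left := isAffine_of_isAffineHom MR.hom
  obtain ⟨R', _, _, v, hv, hv'⟩ := Groth.Agent.HomCorr.exists_hopf MR
  haveI := hv; haveI := hv'
  obtain ⟨il, hil⟩ := Groth.Agent.HopfLift.exists_integral_of_isMultType
    (Groth.Agent.HomCorr.isMultType_of_locally v.hom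
      (Groth.Agent.ConjAvg.locally_bc l (locally_of_multTypeFT hM)))
  let cM := ActBC.bcCompIso j l M (rfl : j ≫ l = j ≫ l)
  let cG := ActBC.bcCompIso j l G (rfl : j ≫ l = j ≫ l)
  let w := tr q d hd u
  let ψ : Red.bc j MR ⟶ Red.bc j GR := cM.hom ≫ w ≫ cG.inv
  haveI : IsMonHom cM.hom := ActBC.bcCompIso_isMonHom _ _ _
  haveI : IsMonHom cG.hom := ActBC.bcCompIso_isMonHom _ _ _
  haveI : IsMonHom w := isMonHom_tr _ _ _ u
  haveI : IsMonHom ψ := inferInstanceAs (IsMonHom (cM.hom ≫ w ≫ cG.inv))
  haveI : IsMonHom ((Over.pullback j).map v.hom) := Groth.Agent.DiagRep.isMonHom_bc_map _ v.hom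
  obtain ⟨f, hf, hfψ⟩ := Groth.Agent.HomCorr.exists_hom_lift hil hJ
    ((Over.pullback j).map v.hom ≫ ψ)
  haveI := hf
  refine ⟨v.inv ≫ f, inferInstance, ?_⟩
  have hψ : (Over.pullback j).map (v.inv ≫ f) = ψ := by
    rw [Functor.map_comp, hfψ, ← Category.assoc, ← Functor.map_comp, Iso.inv_hom_id,
      CategoryTheory.Functor.map_id, Category.id_comp]
  generalize (v.inv ≫ f) = u' at hψ ⊢
  let r : (Red.bc j MR).left ⟶ (Red.bc d M).left :=
    cM.hom.left ≫ shiftFst q d hd
  have h1 : pullback.fst MR.hom j = r ≫ ee := by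
    apply pullback.hom_ext
    · rw [Category.assoc, he₁, Category.assoc, shiftFst_fst]
      exact (ActBC.bcCompIso_hom_left_fst _ _ _ _).symm
    · rw [Category.assoc, he₂, Category.assoc, ← Category.assoc (shiftFst _ _ _), shiftFst_snd,
        Category.assoc, hq, ← Category.assoc, ActBC.bcCompIso_hom_left_snd]
      exact pullback.condition
  have h2 : pullback.fst MR.hom j ≫ u'.left ≫ pullback.fst G.hom l =
      r ≫ u.left ≫ pullback.fst G.hom d := by
    rw [← Category.assoc, ← ActBC.pullback_map_left_fst j u', hψ, Category.assoc]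
    have e : cG.inv.left ≫ pullback.fst GR.hom j ≫ pullback.fst G.hom l =
        pullback.fst G.hom _ := by
      rw [← ActBC.bcCompIso_hom_left_fst j l G rfl, ← Category.assoc, ← Over.comp_left,
        Iso.inv_hom_id, Over.id_left, Category.id_comp]
    show (cM.hom ≫ w ≫ cG.inv).left ≫ _ = _
    rw [Over.comp_left, Over.comp_left, Category.assoc, Category.assoc, e]
    show cM.hom.left ≫ w.left ≫ pullback.fst G.hom _ = _
    rw [tr_fst, Category.assoc]
  haveI : IsIso cM.hom.left := inferInstanceAs (IsIso ((Over.forget _).map cM.hom))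
  haveI : IsIso r := inferInstanceAs (IsIso (cM.hom.left ≫ shiftFst _ _ _))
  rw [h1, Category.assoc] at h2
  exact (cancel_epi r).mp h2

end Generic

variable {A : Type u} [CommRing A] [IsLocalRing A]
variable (M G : Over (Spec (CommRingCat.of A))) [GrpObj M] [GrpObj G] [IsFinite M.hom] [Smooth G.hom]

/-- A homomorphism on a level lifts to the next one. -/
theorem exists_next (hM : SGA3x.IsMultTypeFT M) (n : ℕ) (u : Red.bc (L A n) M ⟶ Red.bc (L A n) G) [IsMonHom u] :
    ∃ u' : Red.bc (L A (n + 1)) M ⟶ Red.bc (L A (n + 1)) G, IsMonHom u' ∧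
      up M n ≫ u'.left ≫ pullback.fst G.hom (L A (n + 1)) = u.left ≫ pullback.fst G.hom (L A n) := by
  exact exists_next_gen M G hM (JJ A n) (isNilpotent_JJ A n) (L A (n + 1)) (L A n) (jp A n) (fk A n) (fk_comp A n)
    (jp_fk A n) (up M n) (up_fst M n) (up_snd M n) u

variable [IsNoetherianRing A] [IsAdicComplete (IsLocalRing.maximalIdeal A) A]

/-- Existence of lifts. -/
theorem exists_lift (hM : SGA3x.IsMultTypeFT M) (u₀ : Red.bc (i₀ A) M ⟶ Red.bc (i₀ A) G) [IsMonHom u₀] :
    ∃ u : M ⟶ G, IsMonHom u ∧ (Over.pullback (i₀ A)).map u = u₀ := by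
  classical
  choose next hnext hcompat using fun n (u : {u : Red.bc (L A n) M ⟶ Red.bc (L A n) G // IsMonHom u}) =>
    haveI := u.2
    exists_next M G hM n u.1
  let us : ∀ n, {u : Red.bc (L A n) M ⟶ Red.bc (L A n) G // IsMonHom u} := fun n => Nat.rec
    ⟨tr (q₀ A) (i₀ A) (q₀_comp A) u₀, isMonHom_tr _ _ _ u₀⟩ (fun n u => ⟨next n u, hnext n u⟩) n
  obtain ⟨f, hf⟩ := exists_levels M (fun n => (us n).1.left ≫ pullback.fst G.hom (L A n))
    (fun n => hcompat n (us n))
  have hw : f ≫ G.hom = M.hom := ext_levels M _ _ fun n => by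
    have e : (us n).1.left ≫ pullback.snd G.hom (L A n) = pullback.snd M.hom (L A n) := Over.w (us n).1
    rw [← Category.assoc, hf, Category.assoc, pullback.condition, ← Category.assoc, e, pullback.condition]
  let u : M ⟶ G := Over.homMk f hw
  have hu : ∀ n, (Over.pullback (L A n)).map u = (us n).1 := fun n => by
    refine Over.OverMorphism.ext (pullback.hom_ext ?_ ?_)
    · exact (ActBC.pullback_map_left_fst (L A n) u).trans (hf n)
    · exact (Over.w ((Over.pullback (L A n)).map u)).trans (Over.w (us n).1).symm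
  haveI : IsFinite (M ⊗ M).hom := inferInstanceAs (IsFinite (pullback.fst M.hom M.hom ≫ M.hom))
  have hmul : μ[M] ≫ u = (u ⊗ₘ u) ≫ μ[G] := by
    refine Over.OverMorphism.ext (ext_levels (M ⊗ M) _ _ fun n => ?_)
    haveI : IsMonHom ((Over.pullback (L A n)).map u) := (hu n).symm ▸ (us n).2
    have h := congrArg (fun k => k.left ≫ pullback.fst G.hom (L A n)) (map_mul_eq (L A n) u)
    simp only [ActBC.pullback_map_left_fst] at h
    exact h
  refine ⟨u, ⟨?_, hmul⟩, ?_⟩
  · have h1 : (1 : 𝟙_ (Over (Spec (CommRingCat.of A))) ⟶ M) ≫ u = 1 := by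
      have h := congrArg (lift (1 : 𝟙_ (Over (Spec (CommRingCat.of A))) ⟶ M) 1 ≫ ·) hmul
      simp only [← Category.assoc, lift_map, ← Hom.mul_def, _root_.one_mul] at h
      exact left_eq_mul.mp h
    rw [MonObj.one_eq_one, MonObj.one_eq_one]
    exact h1
  · refine Over.OverMorphism.ext (pullback.hom_ext ?_ ((Over.w ((Over.pullback (i₀ A)).map u)).trans (Over.w u₀).symm))
    refine (ActBC.pullback_map_left_fst (i₀ A) u).trans ?_
    rw [← cancel_epi (shiftFst (q₀ A) (i₀ A) (q₀_comp A) (M := M)), ← Category.assoc, shiftFst_fst]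
    refine (hf 0).trans ?_
    exact tr_fst _ _ _ u₀

end CompleteHom
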